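import Groth.Agent.ArtinVanLib.Affine
import Groth.Agent.ArtinVanLib.StrictLoc

/-!
# The support of the higher direct images of affine morphisms of algebraic schemes
-/

set_option autoImplicit false
set_option backward.isDefEq.respectTransparency false
set_option backward.isDefEq.respectTransparency.types false
set_option linter.style.haveILetI false
set_option maxHeartbeats 1000000
set_option synthInstance.maxHeartbeats 200000

universe u

open CategoryTheory CategoryTheory.Limits AlgebraicGeometry Opposite IsLocalRing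
open scoped TensorProduct

noncomputable section

namespace Groth.Agent.ArtinSuppLib

open CdFieldLib ArtinVanLib

attribute [local instance] Groth.Agent.S0101.result

/-- A sheaf with empty support is zero. -/
theorem isZero_of_supp_empty {X : Scheme.{u}} (F : EtCoh.Ab X) (h : ∀ x, x ∉ EtPBC.supp F) : IsZero F :=
  (EtPtsLib.isZero_iff_ab F).2 fun Ω _ _ ξ => by
    by_contra hne
    exact h (ξ default) ⟨Ω, inferInstance, inferInstance, ξ, Set.range_unique, hne⟩

/-- The support of the higher direct images drops in transcendence degree with the degree. -/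
theorem resTrdegLE_supp_Rpush {k : Type u} [Field k] {X Y : Scheme.{u}} (aX : X ⟶ Spec (CommRingCat.of k))
    (aY : Y ⟶ Spec (CommRingCat.of k)) [LocallyOfFiniteType aX] [LocallyOfFiniteType aY] (f : X ⟶ Y) (w : f ≫ aY = aX)
    [IsAffineHom f] (F : EtCoh.Ab X) (hF : EtAcyc.IsLTorsion Set.univ F) (a q b : ℕ) (hqb : q + b = a)
    (hd : ∀ x ∈ EtPBC.supp F, EtPBC.ResTrdegLE aX x a) (y : Y) (hy : y ∈ EtPBC.supp ((EtCoh.Rpush f q).obj F)) :
    EtPBC.ResTrdegLE aY y b := by
  obtain ⟨c₀, hc₀⟩ := Y.affineCover.covers y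
  let C : Type u := Γ(Y.affineCover.X (Y.affineCover.idx y), ⊤)
  let ι : Spec (CommRingCat.of C) ⟶ Y :=
    (Y.affineCover.X (Y.affineCover.idx y)).isoSpec.inv ≫ Y.affineCover.f (Y.affineCover.idx y)
  obtain ⟨c, hc⟩ : ∃ c, ι c = y :=
    ⟨(Y.affineCover.X (Y.affineCover.idx y)).isoSpec.hom c₀, by
      show ((Y.affineCover.X _).isoSpec.hom ≫ (Y.affineCover.X _).isoSpec.inv ≫ Y.affineCover.f _) c₀ = _
      rw [Iso.hom_inv_id_assoc]
      exact hc₀⟩
  obtain ⟨_, hloc, hfac⟩ := exists_isLocalization_stalk ι c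
  haveI := hloc
  obtain ⟨R, _, _, _, _, hR⟩ := Henselization.exists_strictHenselization (R := Y.presheaf.stalk (ι c))
  haveI := hR
  haveI : IsSepClosed (ResidueField R) :=
    (Hensel.IsStrictHenselization.isSepClosure (R := Y.presheaf.stalk (ι c)) (S := R)).sep_closed
  let O := Y.presheaf.stalk (ι c)
  obtain ⟨eR⟩ := Groth.Agent.S0620.result f F (ι c) R q
  -- algebra over the base field
  obtain ⟨κ, hκ⟩ := Spec.map_surjective (ι ≫ aY)
  letI : Algebra k C := κ.hom.toAlgebra
  letI : Algebra k O := ((algebraMap C O).comp (algebraMap k C)).toAlgebra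
  haveI : IsScalarTower k C O := .of_algebraMap_eq' rfl
  letI : Algebra C R := ((algebraMap O R).comp (algebraMap C O)).toAlgebra
  haveI : IsScalarTower C O R := .of_algebraMap_eq' rfl
  letI : Algebra k R := ((algebraMap O R).comp (algebraMap k O)).toAlgebra
  haveI : IsScalarTower k O R := .of_algebraMap_eq' rfl
  haveI : IsScalarTower k C R := .of_algebraMap_eq' rfl
  haveI : LocallyOfFiniteType (Spec.map κ) := by rw [hκ]; infer_instance
  haveI : Algebra.FiniteType k C := (HasRingHomProperty.Spec_iff (P := @LocallyOfFiniteType)).1 this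
  haveI : IsNoetherianRing C := Algebra.FiniteType.isNoetherianRing k C
  haveI : IsNoetherianRing O := IsLocalization.isNoetherianRing c.asIdeal.primeCompl _ inferInstance
  obtain ⟨eH⟩ := Henselization.exists_algEquiv_of_isStrictHenselization O R
  haveI : IsNoetherianRing R := (Henselization.isNoetherianRing_of_equiv eH).2 inferInstance
  haveI : HenselianLocalRing R := Hensel.IsStrictHenselization.henselian (R := O) (S := R)
  -- the affine scheme over the strict localization
  let W := pullback f ι
  haveI : IsAffine W := isAffine_of_isAffineHom (pullback.snd f ι)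
  let B : Type u := Γ(W, ⊤)
  obtain ⟨ψ, hψ⟩ := Spec.map_surjective (W.isoSpec.inv ≫ pullback.snd f ι)
  letI : Algebra C B := ψ.hom.toAlgebra
  letI : Algebra k B := ((algebraMap C B).comp (algebraMap k C)).toAlgebra
  haveI : IsScalarTower k C B := .of_algebraMap_eq' rfl
  haveI : LocallyOfFiniteType f := by
    haveI : LocallyOfFiniteType (f ≫ aY) := by rw [w]; infer_instance
    exact locallyOfFiniteType_of_comp f aY
  haveI : LocallyOfFiniteType (Spec.map ψ) := by
    rw [hψ]
    haveI : LocallyOfFiniteType (pullback.snd f ι) := MorphismProperty.pullback_snd _ _ inferInstance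
    infer_instance
  haveI : Algebra.FiniteType C B := (HasRingHomProperty.Spec_iff (P := @LocallyOfFiniteType)).1 this
  let A := B ⊗[C] R
  haveI : IsNoetherianRing A := by
    haveI : Algebra.FiniteType R (R ⊗[C] B) := inferInstance
    haveI : IsNoetherianRing (R ⊗[C] B) := Algebra.FiniteType.isNoetherianRing R (R ⊗[C] B)
    exact isNoetherianRing_of_ringEquiv (R ⊗[C] B) (Algebra.TensorProduct.comm C R B).toRingEquiv
  have hspec : Hens2.specOf Y (ι c) R = Spec.map (CommRingCat.ofHom (algebraMap C R)) ≫ ι := by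
    show Spec.map (CommRingCat.ofHom (algebraMap O R)) ≫ Y.fromSpecStalk (ι c) = _
    rw [← hfac, ← Category.assoc, ← Spec.map_comp]
    rfl
  let u : Spec (CommRingCat.of A) ⟶ pullback f (Hens2.specOf Y (ι c) R) :=
    (pullbackSpecIso C B R).inv ≫
      (pullback.map _ _ _ _ W.isoSpec.inv (𝟙 _) (𝟙 _)
        (by rw [Category.comp_id]; exact hψ) (by rw [Category.comp_id, Category.id_comp])) ≫
      (pullbackLeftPullbackSndIso f ι (Spec.map (CommRingCat.ofHom (algebraMap C R)))).hom ≫
      (pullback.congrHom rfl hspec).inv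
  have hu : u ≫ pullback.fst f (Hens2.specOf Y (ι c) R) =
      Spec.map (CommRingCat.ofHom (algebraMap B A)) ≫ W.isoSpec.inv ≫ pullback.fst f ι := by
    simp only [u, Category.assoc, pullback.congrHom_inv, pullback.lift_fst, Category.comp_id,
      pullbackLeftPullbackSndIso_hom_fst, pullback.lift_fst_assoc]
    rw [pullbackSpecIso_inv_fst_assoc]
    rfl
  haveI : Algebra.EssFiniteType C O := .of_isLocalization O c.asIdeal.primeCompl
  haveI : Algebra.EssFiniteType k O := Algebra.EssFiniteType.comp k C O
  haveI : Algebra.EssFiniteType k (ResidueField O) := Algebra.EssFiniteType.comp k O (ResidueField O)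
  obtain ⟨δ, hδ⟩ := exists_nat_trdeg_of_essFiniteType k (ResidueField O)
  by_cases hδb : δ ≤ b
  · rw [← hc]
    refine ⟨algebraMap k (ResidueField O), ?_, ?_⟩
    · rw [show CommRingCat.ofHom (algebraMap k (ResidueField O)) =
        κ ≫ CommRingCat.ofHom (algebraMap C O) ≫ Y.residue (ι c) from rfl, Spec.map_comp, Spec.map_comp, hκ]
      simp only [Category.assoc]
      rw [← Category.assoc (Spec.map (CommRingCat.ofHom (algebraMap C O))), hfac]
      rfl
    · show @Algebra.trdeg k (ResidueField O) _ _ ((algebraMap k (ResidueField O)).toAlgebra) ≤ (b : ℕ)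
      rw [show (algebraMap k (ResidueField O)).toAlgebra = (inferInstance : Algebra k (ResidueField O)) from
        Algebra.algebra_ext _ _ fun _ => rfl, hδ]
      exact_mod_cast hδb
  exfalso
  obtain ⟨k', _, _, _, hkk', hsep, hk'⟩ := exists_sepClosed_subfield_residue (k := k) (O := O) (R := R) hδ
  haveI := hkk'
  haveI := hsep
  letI : Algebra k' A :=
    ((Algebra.TensorProduct.includeRight : R →ₐ[C] A).toRingHom.comp (algebraMap k' R)).toAlgebra
  haveI : IsScalarTower k k' A := .of_algebraMap_eq fun z => by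
    show algebraMap k B z ⊗ₜ[C] (1 : R) = (1 : B) ⊗ₜ[C] algebraMap k' R (algebraMap k k' z)
    rw [← IsScalarTower.algebraMap_apply, IsScalarTower.algebraMap_apply k C B, IsScalarTower.algebraMap_apply k C R,
      Algebra.algebraMap_eq_smul_one, TensorProduct.smul_tmul, ← Algebra.algebraMap_eq_smul_one]
  let G := (EtCoh.pull (pullback.fst f (Hens2.specOf Y (ι c) R))).obj F
  have hbound : ∀ P : Spec (CommRingCat.of A), u P ∈ EtPBC.supp G →
      (δ : Cardinal.{u}) + Algebra.trdeg k' (A ⧸ P.asIdeal) ≤ (a : ℕ) := by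
    intro P hP
    let v : Spec (CommRingCat.of B) ⟶ X := W.isoSpec.inv ≫ pullback.fst f ι
    let P' : Spec (CommRingCat.of B) := Spec.map (CommRingCat.ofHom (algebraMap B A)) P
    have hx : v P' ∈ EtPBC.supp F := by
      obtain ⟨Ω', _, _, ζ, hζ, hne⟩ := hP
      refine ⟨Ω', inferInstance, inferInstance, ζ ≫ pullback.fst f (Hens2.specOf Y (ι c) R), ?_, fun hz =>
        hne (hz.of_iso (stalkCompIso _ ζ F))⟩
      rw [Scheme.Hom.comp_base, TopCat.coe_comp, Set.range_comp, hζ, Set.image_singleton, ← Scheme.Hom.comp_apply, hu]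
      rw [show Spec.map (CommRingCat.ofHom (algebraMap B A)) ≫ W.isoSpec.inv ≫ pullback.fst f ι =
        Spec.map (CommRingCat.ofHom (algebraMap B A)) ≫ v from rfl, Scheme.Hom.comp_apply]
    have hv : v ≫ aX = Spec.map (CommRingCat.ofHom (algebraMap k B)) := by
      rw [show CommRingCat.ofHom (algebraMap k B) = κ ≫ ψ from rfl, Spec.map_comp, hψ, hκ]
      simp only [v, ← w, Category.assoc, pullback.condition_assoc]
    haveI : IsOpenImmersion (pullback.fst f ι) := inferInstance
    have h1 : Algebra.trdeg k (A ⧸ P.asIdeal) ≤ (a : ℕ) :=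
      (trdeg_quotient_tensor_le (k := k) (O := O) c.asIdeal P.asIdeal).trans
        (trdeg_quotient_le_resTrdeg aX v hv P' (hd _ hx))
    haveI : FaithfulSMul k' (A ⧸ P.asIdeal) :=
      (faithfulSMul_iff_algebraMap_injective _ _).2 (RingHom.injective _)
    haveI : FaithfulSMul k k' := (faithfulSMul_iff_algebraMap_injective _ _).2 (RingHom.injective _)
    rwa [← trdeg_add_eq k k' (A := A ⧸ P.asIdeal), hk'] at h1
  suffices h : Subsingleton (EtCoh.H (pullback f (Hens2.specOf Y (ι c) R)) G q) by
    obtain ⟨eR⟩ := Groth.Agent.S0620.result f F (ι c) R q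
    obtain ⟨Ω', _, _, ξ, hξ, hne⟩ := hy
    haveI := h
    refine hne (isZero_stalk_of_default_eq _ ((AddCommGrpCat.isZero_of_subsingleton _).of_iso eR) ?_)
    rw [geomPt_default (ι c) R, hc]
    exact (hξ.le ⟨default, rfl⟩ : ξ default ∈ ({y} : Set Y))
  have hG : EtAcyc.IsLTorsion Set.univ G := AcycCompLib.isLTorsion_pull _ hF
  rcases Nat.lt_or_ge a δ with hlt | hge
  · have hz : IsZero G := isZero_of_supp_empty G fun x hx => by
      obtain ⟨P, rfl⟩ : ∃ P, u P = x := u.surjective x
      have h2 : (δ : Cardinal.{u}) ≤ (a : ℕ) := le_self_add.trans (hbound P hx)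
      exact absurd (show δ ≤ a by exact_mod_cast h2) (by omega)
    haveI := PBCLib.HF_additive (pullback f (Hens2.specOf Y (ι c) R)) q
    exact (PBCLib.subsingleton_H_iff _ q).2 ((EtCoh.HF _ q).map_isZero hz)
  · refine subsingleton_H_of_iso_spec (k := k') (e := 0) (d := a - δ) (cdLE_zero_of_sepClosed _ _) u _ hG
      (fun P hP => ?_) q (by omega)
    have h2 := hbound P hP
    obtain ⟨t, ht⟩ : ∃ t : ℕ, Algebra.trdeg k' (A ⧸ P.asIdeal) = t :=
      Cardinal.lt_aleph0.1 (lt_of_le_of_lt (le_add_self.trans h2) Cardinal.natCast_lt_aleph0)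
    rw [ht] at h2 ⊢
    have h3 : δ + t ≤ a := by exact_mod_cast h2
    exact_mod_cast (show t ≤ a - δ by omega)

end Groth.Agent.ArtinSuppLib
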